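import Groth.Agent.PurBirLib.Apps
import Groth.Agent.CurveFFLib.GenEtale
import Groth.Agent.ProperClopenLib.Sigma
import Groth.Agent.S4442
import Groth.Agent.S2345
import Groth.Agent.S2346
import Groth.Agent.S4445
import Mathlib

/-! # The normal completion of an integral normal curve, and finite disjoint unions over a field -/

set_option autoImplicit false
set_option linter.style.haveILetI false
universe u

open CategoryTheory CategoryTheory.Limits AlgebraicGeometry TopologicalSpace

noncomputable section

namespace NormCurveComplLib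

attribute [local instance] Curv2.stalkAlgebra

variable (k : Type u) [Field k]

/-- An integral normal curve is open and dense in a proper normal curve. -/
theorem exists_completion (X : Scheme.{u}) [X.Over (Spec (CommRingCat.of k))]
    [LocallyOfFiniteType (X ↘ (Spec (CommRingCat.of k)))] [QuasiCompact (X ↘ (Spec (CommRingCat.of k)))]
    [IsSeparated (X ↘ (Spec (CommRingCat.of k)))] [IsIntegral X]
    (hX : ∀ x : X, IsClosed ({x} : Set X) → ringKrullDim (X.presheaf.stalk x) = 1)
    (hnorm : Pi1.IsNormalScheme X) :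
    ∃ (Xc : Scheme.{u}) (sc : Xc ⟶ Spec (CommRingCat.of k)) (j : X ⟶ Xc), IsOpenImmersion j ∧
      Dense (Set.range j.base) ∧ j ≫ sc = X ↘ (Spec (CommRingCat.of k)) ∧ IsProper sc ∧ Pi1.IsNormalScheme Xc ∧
      ∀ x : Xc, IsClosed ({x} : Set Xc) → ringKrullDim (Xc.presheaf.stalk x) = 1 := by
  haveI := CurveFFLib.essFiniteType_functionField (k := k) (X := X)
  have htr : Algebra.trdeg k X.functionField = 1 := by
    letI := Curv2.resAlgebra k X (genericPoint X)
    have h := (Groth.Agent.S4442.result k X).2 hX (genericPoint X) (by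
      rw [(genericPoint_spec X).def, irreducibleComponents_eq_singleton]
      exact rfl)
    let e : X.functionField ≃ₐ[k] X.residueField (genericPoint X) :=
      AlgEquiv.ofBijective { (X.residue (genericPoint X)).hom with commutes' := fun _ => rfl }
        ⟨RingHom.injective (R := X.functionField) (X.residue (genericPoint X)).hom, X.residue_surjective _⟩
    exact e.trdeg_eq.trans h
  obtain ⟨Xc, hOver, hInt, hprop, hnc, hdc, e, he⟩ :=
    Groth.Agent.S2345.result k X.functionField (IntermediateField.fg_top_iff.2 inferInstance) htr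
  letI := hOver; haveI := hInt; haveI := hprop
  let φ : Xc.functionField →ₐ[k] X.functionField := { e.toRingHom with commutes' := he }
  obtain ⟨u, ⟨hus, hu, hst⟩, -⟩ := Groth.Agent.S4445.result k X Xc hX hnorm hdc φ
  haveI : IsSeparated (u ≫ (Xc ↘ Spec (CommRingCat.of k))) := hus.symm ▸ inferInstance
  haveI : IsSeparated u := IsSeparated.of_comp u (Xc ↘ Spec (CommRingCat.of k))
  haveI : LocallyOfFiniteType (u ≫ (Xc ↘ Spec (CommRingCat.of k))) := hus.symm ▸ inferInstance
  haveI : LocallyOfFiniteType u := locallyOfFiniteType_of_comp u (Xc ↘ Spec (CommRingCat.of k))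
  haveI : QuasiCompact (u ≫ (Xc ↘ Spec (CommRingCat.of k))) := hus.symm ▸ inferInstance
  haveI : QuasiCompact u := QuasiCompact.of_comp u (Xc ↘ Spec (CommRingCat.of k))
  have hbir : PurBirLib.Bir u := by
    refine ⟨hu, ?_⟩
    have h1 : IsIso (Xc.presheaf.stalkSpecializes (specializes_of_eq hu) ≫ u.stalkMap (genericPoint X)) := by
      refine (ConcreteCategory.isIso_iff_bijective _).2 ?_
      show Function.Bijective ⇑(CommRingCat.Hom.hom (Xc.presheaf.stalkSpecializes (specializes_of_eq hu) ≫ u.stalkMap (genericPoint X)))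
      rw [hst]
      exact e.bijective
    haveI : IsIso (Xc.presheaf.stalkSpecializes (specializes_of_eq hu)) := by
      have := (Xc.presheaf.stalkCongr (Inseparable.of_eq hu).symm).isIso_hom
      exact this
    exact IsIso.of_isIso_comp_left (Xc.presheaf.stalkSpecializes (specializes_of_eq hu)) _
  haveI : IsDominant u := ⟨by
    intro y
    refine (genericPoint_specializes y).mem_closed isClosed_closure (subset_closure ⟨genericPoint X, ?_⟩)
    exact hu⟩
  have hfin : ∀ y : Xc, (u.base ⁻¹' {y}).Finite :=
    (Groth.Agent.S2346.result k X Xc hX hdc u hus).1 inferInstance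
  haveI : LocallyQuasiFinite u := LocallyQuasiFinite.of_finite_preimage_singleton u hfin
  haveI := PurBirLib.isOpenImmersion_of_quasiFinite u hbir (fun y => (hnc y).2) fun x => u.quasiFiniteAt x
  exact ⟨Xc, Xc ↘ Spec (CommRingCat.of k), u, inferInstance, Scheme.Hom.denseRange u, hus, hprop, hnc, hdc⟩

variable {ι : Type u} [Finite ι]

/-- The fold map of finitely many copies of an affine scheme is finite. -/
theorem isFinite_fold :
    IsFinite (Sigma.desc fun _ : ι => 𝟙 (Spec (CommRingCat.of k))) := by
  have h : Sigma.desc (fun _ : ι => 𝟙 (Spec (CommRingCat.of k))) =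
      sigmaSpec (fun _ : ι => CommRingCat.of k) ≫
        Spec.map (CommRingCat.ofHom (Pi.ringHom fun _ : ι => RingHom.id k)) := by
    refine Sigma.hom_ext _ _ fun i => ?_
    rw [Sigma.ι_desc, ← Category.assoc, ι_sigmaSpec, ← Spec.map_comp, ← Spec.map_id]
    rfl
  rw [h]
  haveI : IsFinite (Spec.map (CommRingCat.ofHom (Pi.ringHom fun _ : ι => RingHom.id k))) := by
    rw [IsFinite.SpecMap_iff]
    letI : Fintype ι := Fintype.ofFinite ι
    exact (RingHom.finite_algebraMap (A := k) (B := ι → k)).2 inferInstance
  infer_instance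

/-- A finite disjoint union of proper schemes over a field is proper. -/
theorem isProper_sigmaDesc (Y : ι → Scheme.{u}) (s : ∀ i, Y i ⟶ Spec (CommRingCat.of k)) [∀ i, IsProper (s i)] :
    IsProper (Sigma.desc s) := by
  have h : Sigma.desc s = Limits.Sigma.map s ≫ Sigma.desc (fun _ : ι => 𝟙 (Spec (CommRingCat.of k))) := by
    refine Sigma.hom_ext _ _ fun i => ?_
    rw [Sigma.ι_desc, ← Category.assoc, Limits.Sigma.ι_map, Category.assoc, Sigma.ι_desc, Category.comp_id]
  haveI : IsProper (Limits.Sigma.map s) := by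
    refine IsZariskiLocalAtTarget.of_openCover (P := @IsProper) (sigmaOpenCover fun _ : ι => Spec (CommRingCat.of k))
      fun i => ?_
    show IsProper (pullback.snd (Limits.Sigma.map s) (Sigma.ι (fun _ : ι => Spec (CommRingCat.of k)) i))
    exact (MorphismProperty.cancel_left_of_respectsIso @IsProper
      (ProperClopenLib.isPullback_sigmaMap (fun _ : ι => Spec (CommRingCat.of k)) Y s i).flip.isoPullback.hom _).mp
      (by rw [IsPullback.isoPullback_hom_snd]; exact ‹∀ i, IsProper (s i)› i)
  haveI := isFinite_fold k (ι := ι)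
  rw [h]
  infer_instance

omit [Finite ι] in
/-- A disjoint union of open immersions is an open immersion. -/
theorem isOpenImmersion_sigmaMap {X Y : ι → Scheme.{u}} (j : ∀ i, X i ⟶ Y i) [∀ i, IsOpenImmersion (j i)] :
    IsOpenImmersion (Limits.Sigma.map j) := by
  have h : Limits.Sigma.map j = Sigma.desc (fun i => j i ≫ Sigma.ι Y i) := by
    refine Sigma.hom_ext _ _ fun i => ?_
    rw [Limits.Sigma.ι_map, Sigma.ι_desc]
  rw [h]
  refine isOpenImmersion_sigmaDesc _ _ fun a b hab => Set.disjoint_left.2 ?_
  rintro z ⟨p, rfl⟩ ⟨q, hq⟩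
  rw [Scheme.Hom.comp_apply, Scheme.Hom.comp_apply] at hq
  exact hab (ProperClopenLib.eq_of_sigmaι_eq Y hq).symm

omit [Finite ι] in
/-- A disjoint union of maps with dense ranges has dense range. -/
theorem dense_range_sigmaMap {X Y : ι → Scheme.{u}} (j : ∀ i, X i ⟶ Y i) (hj : ∀ i, Dense (Set.range (j i).base)) :
    Dense (Set.range (Limits.Sigma.map j).base) := by
  intro z
  obtain ⟨⟨i, y⟩, rfl⟩ := (sigmaMk Y).surjective z
  rw [sigmaMk_mk]
  refine closure_mono ?_ (image_closure_subset_closure_image (Sigma.ι Y i).continuous ⟨y, hj i y, rfl⟩)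
  rintro _ ⟨_, ⟨x, rfl⟩, rfl⟩
  refine ⟨Sigma.ι X i x, ?_⟩
  show (Sigma.ι X i ≫ Limits.Sigma.map j) x = _
  rw [Limits.Sigma.ι_map]
  rfl

end NormCurveComplLib
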